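import Mathlib

/-!
A formally smooth algebra with a retraction: the conormal module is projective, and any generating
lift of it presents the algebra as a symmetric algebra.
-/

set_option autoImplicit false

universe u

noncomputable section

namespace Groth.Agent.DiagMonSym

variable {R S A : Type u} [CommRing R] [CommRing S] [CommRing A] [Algebra R S] [Algebra R A]
  [Algebra S A] [IsScalarTower R S A] (ε : A →ₐ[S] S)

/-- The kernel of the retraction. -/
abbrev aug : Ideal A := RingHom.ker ε

theorem sub_mem_aug (a : A) : a - algebraMap S A (ε a) ∈ aug ε := by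
  simp [aug, RingHom.mem_ker]

/-- The linear part of an element. -/
def lin : A →ₗ[S] (aug ε).Cotangent where
  toFun a := (aug ε).toCotangent ⟨a - algebraMap S A (ε a), sub_mem_aug ε a⟩
  map_add' a b := by
    rw [← map_add]
    congr 1
    ext
    simp only [map_add, Submodule.coe_add]
    abel
  map_smul' c a := by
    rw [RingHom.id_apply, ← algebraMap_smul A c ((aug ε).toCotangent _), ← map_smul]
    congr 1
    ext
    simp [Algebra.smul_def, mul_sub]

theorem lin_algebraMap (c : S) : lin ε (algebraMap S A c) = 0 :=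
  ((aug ε).toCotangent_eq_zero _).mpr (by simp)

theorem lin_of_mem {a : A} (ha : a ∈ aug ε) : lin ε a = (aug ε).toCotangent ⟨a, ha⟩ := by
  change (aug ε).toCotangent _ = _
  congr 1
  ext
  simp [RingHom.mem_ker.mp ha]

theorem lin_mul (a b : A) : lin ε (a * b) = ε a • lin ε b + ε b • lin ε a := by
  rw [← map_smul, ← map_smul, ← map_add]
  apply (Ideal.toCotangent_eq (aug ε)).mpr
  have := Ideal.mul_mem_mul (sub_mem_aug ε a) (sub_mem_aug ε b)
  rw [pow_two]
  convert this using 1
  simp only [Algebra.smul_def, map_add, map_mul, AlgHom.commutes, Algebra.algebraMap_self, RingHom.id_apply]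
  ring

theorem lin_eq_zero_of_mem_sq {a : A} (ha : a ∈ aug ε ^ 2) : lin ε a = 0 := by
  have ha' : a ∈ aug ε := Ideal.pow_le_self two_ne_zero ha
  rw [lin_of_mem ε ha']
  exact ((aug ε).toCotangent_eq_zero _).mpr ha

theorem lin_surjective : Function.Surjective (lin ε) := fun p => by
  obtain ⟨⟨a, ha⟩, rfl⟩ := (aug ε).toCotangent_surjective p
  exact ⟨a, lin_of_mem ε ha⟩

include ε in
theorem finiteType_base [Algebra.FiniteType R A] : Algebra.FiniteType R S :=
  Algebra.FiniteType.of_surjective (ε.restrictScalars R) fun c => ⟨algebraMap S A c, ε.commutes c⟩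

omit [Algebra R A] [Algebra R S] [IsScalarTower R S A] in
theorem finite_cotangent [Algebra.FiniteType S A] : Module.Finite S (aug ε).Cotangent := by
  obtain ⟨t, ht⟩ := Algebra.FiniteType.out (R := S) (A := A)
  refine ⟨⟨(Set.Finite.image (lin ε) t.finite_toSet).toFinset, ?_⟩⟩
  rw [Set.Finite.coe_toFinset, eq_top_iff]
  rintro p -
  obtain ⟨a, rfl⟩ := lin_surjective ε p
  have ha : a ∈ Algebra.adjoin S (t : Set A) := ht ▸ Algebra.mem_top
  induction ha using Algebra.adjoin_induction with
  | mem x hx => exact Submodule.subset_span ⟨x, hx, rfl⟩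
  | algebraMap c => rw [lin_algebraMap]; exact zero_mem _
  | add x y _ _ hx hy => rw [map_add]; exact add_mem hx hy
  | mul x y _ _ hx hy => rw [lin_mul]; exact add_mem (Submodule.smul_mem _ _ hy) (Submodule.smul_mem _ _ hx)

open TrivSqZeroExt in
theorem projective_cotangent [Algebra.FormallySmooth R A] [Module.Finite S (aug ε).Cotangent] :
    Module.Projective S (aug ε).Cotangent := by
  let P := (aug ε).Cotangent
  obtain ⟨d, q, hq⟩ := Module.Finite.exists_fin' S P
  letI : Module Sᵐᵒᵖ P := Module.compHom P ((RingHom.id S).fromOpposite mul_comm)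
  haveI : IsCentralScalar S P := ⟨fun c p => rfl⟩
  letI : Module Rᵐᵒᵖ P := Module.compHom P ((RingHom.id R).fromOpposite mul_comm)
  haveI : IsCentralScalar R P := ⟨fun c p => rfl⟩
  haveI : IsScalarTower R Sᵐᵒᵖ P := ⟨fun r c p => by
    change (r • c).unop • p = r • c.unop • p
    rw [MulOpposite.unop_smul, smul_assoc]⟩
  let α : A →ₐ[R] TrivSqZeroExt S P :=
    { toFun := fun a => inl (ε a) + inr (lin ε a)
      map_one' := by
        ext
        · simp
        · simpa using lin_algebraMap ε 1
      map_mul' := fun a b => by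
        ext
        · simp
        · simpa [op_smul_eq_smul, add_comm] using lin_mul ε a b
      map_zero' := by ext <;> simp
      map_add' := fun a b => by ext <;> simp
      commutes' := fun r => by
        rw [IsScalarTower.algebraMap_apply R S A]
        ext
        · simp [TrivSqZeroExt.algebraMap_eq_inl']
        · simp [TrivSqZeroExt.algebraMap_eq_inl', lin_algebraMap] }
  let β : TrivSqZeroExt S (Fin d → S) →ₐ[R] TrivSqZeroExt S P := (TrivSqZeroExt.map q).restrictScalars R
  have hβf : ∀ z, (β z).fst = z.fst := fun z => TrivSqZeroExt.fst_map q z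
  have hβs : ∀ z, (β z).snd = q z.snd := fun z => TrivSqZeroExt.snd_map q z
  have hβ : Function.Surjective β := fun z => by
    obtain ⟨v, hv⟩ := hq z.snd
    exact ⟨inl z.fst + inr v, TrivSqZeroExt.ext (by rw [hβf]; simp) (by rw [hβs]; simp [hv])⟩
  have hnil : IsNilpotent (RingHom.ker (β : TrivSqZeroExt S (Fin d → S) →+* TrivSqZeroExt S P)) := by
    refine ⟨2, ?_⟩
    change _ ^ (1 + 1) = _
    rw [Submodule.pow_succ, Submodule.pow_one]
    rw [Ideal.zero_eq_bot, ← le_bot_iff, Ideal.mul_le]
    intro x hx y hy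
    have h : ∀ {z : TrivSqZeroExt S (Fin d → S)}, β z = 0 → z.fst = 0 := fun {z} hz => by
      rw [← hβf, hz, fst_zero]
    rw [Ideal.mem_bot]
    ext <;> simp [h (RingHom.mem_ker.mp hx), h (RingHom.mem_ker.mp hy)]
  let l : A →ₐ[R] TrivSqZeroExt S (Fin d → S) := Algebra.FormallySmooth.liftOfSurjective α β hβ hnil
  have hl : ∀ a, β (l a) = α a := fun a => Algebra.FormallySmooth.liftOfSurjective_apply α β hβ hnil a
  have hfst : ∀ a, (l a).fst = ε a := fun a => by rw [← hβf, hl]; simp [α]
  have hmul : ∀ a b, (l (a * b)).snd = ε a • (l b).snd + ε b • (l a).snd := fun a b => by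
    simp [map_mul, hfst, op_smul_eq_smul]
  have hwd : ∀ {x y : A}, x ∈ aug ε → y ∈ aug ε → lin ε x = lin ε y → (l x).snd = (l y).snd := by
    intro x y hx hy h
    rw [lin_of_mem ε hx, lin_of_mem ε hy] at h
    have h2 := (Ideal.toCotangent_eq (aug ε)).mp h
    rw [← sub_eq_zero, ← snd_sub, ← map_sub]
    rw [pow_two] at h2
    refine Submodule.mul_induction_on h2 (fun a ha b hb => ?_) fun a b ha hb => by rw [map_add, snd_add, ha, hb, add_zero]
    rw [hmul, RingHom.mem_ker.mp ha, RingHom.mem_ker.mp hb, zero_smul, zero_smul, add_zero]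
  choose rep hrep using (aug ε).toCotangent_surjective
  have hlinrep : ∀ p, lin ε (rep p : A) = p := fun p => (lin_of_mem ε (rep p).2).trans (hrep p)
  let h : P →ₗ[S] (Fin d → S) :=
    { toFun := fun p => (l (rep p)).snd
      map_add' := fun p p' => by
        rw [← snd_add, ← map_add]
        exact hwd (rep (p + p')).2 ((aug ε).add_mem (rep p).2 (rep p').2)
          (by simp only [map_add, hlinrep])
      map_smul' := fun c p => by
        have hd : ε (algebraMap S A c) = c := ε.commutes c
        rw [RingHom.id_apply]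
        refine (hwd (rep (c • p)).2 ((aug ε).mul_mem_left (algebraMap S A c) (rep p).2) ?_).trans ?_
        · simp only [← Algebra.smul_def, map_smul, hlinrep]
        · rw [hmul, hd, RingHom.mem_ker.mp (rep p).2, zero_smul, add_zero] }
  refine Module.Projective.of_split h q (LinearMap.ext fun p => ?_)
  change q (l (rep p)).snd = p
  rw [← hβs, hl]
  simp [α, hlinrep]

theorem bijective_lift [Algebra.FormallySmooth R A] [Algebra.FinitePresentation S A]
    [Module.Finite S (aug ε).Cotangent] [Module.Projective S (aug ε).Cotangent]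
    (s : (aug ε).Cotangent →ₗ[S] A) (hs : ∀ p, s p ∈ aug ε) (hsec : ∀ p, lin ε (s p) = p)
    (hgen : Function.Surjective (SymmetricAlgebra.lift s)) :
    Function.Bijective (SymmetricAlgebra.lift s) := by
  let M := (aug ε).Cotangent
  obtain ⟨d, q, hq⟩ := Module.Finite.exists_fin' S M
  obtain ⟨σ, hσ⟩ := Module.projective_lifting_property q LinearMap.id hq
  let φ : SymmetricAlgebra S M →ₐ[S] A := SymmetricAlgebra.lift s
  let P := SymmetricAlgebra S M
  let j : P →ₐ[S] MvPolynomial (Fin d) S :=
    SymmetricAlgebra.lift ((Fintype.linearCombination S (fun i => MvPolynomial.X i)) ∘ₗ σ)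
  let Qm : MvPolynomial (Fin d) S →ₐ[S] P :=
    MvPolynomial.aeval fun i => SymmetricAlgebra.ι S M (q (Pi.single i 1))
  have hQj : Qm.comp j = AlgHom.id S P := by
    refine SymmetricAlgebra.algHom_ext (LinearMap.ext fun p => ?_)
    have hp : q (σ p) = p := LinearMap.congr_fun hσ p
    have hsum : σ p = ∑ i, σ p i • (Pi.single i 1 : Fin d → S) := pi_eq_sum_univ' (σ p)
    change Qm (j (SymmetricAlgebra.ι S M p)) = SymmetricAlgebra.ι S M p
    rw [SymmetricAlgebra.lift_ι_apply]
    conv_rhs => rw [← hp, hsum]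
    simp [Qm, Fintype.linearCombination_apply]
  have hQs : Function.Surjective Qm := fun x => ⟨j x, AlgHom.congr_fun hQj x⟩
  have hjinj : Function.Injective j := Function.LeftInverse.injective (g := Qm) fun x => AlgHom.congr_fun hQj x
  let J : Ideal P := RingHom.ker φ
  let m : Ideal P := RingHom.ker (SymmetricAlgebra.algebraMapInv (R := S) (M := M))
  have hεφ : ε.comp φ = SymmetricAlgebra.algebraMapInv := SymmetricAlgebra.algHom_ext (LinearMap.ext fun p => by
    change ε (φ (SymmetricAlgebra.ι S M p)) = SymmetricAlgebra.algebraMapInv (SymmetricAlgebra.ι S M p)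
    rw [SymmetricAlgebra.lift_ι_apply, SymmetricAlgebra.algebraMapInv_ι]
    exact hs p)
  have hJm : J ≤ m := fun f hf => by
    change SymmetricAlgebra.algebraMapInv f = 0
    rw [← hεφ, AlgHom.comp_apply, show φ f = 0 from hf, map_zero]
  have hdec : ∀ f : P, ∃ p : M, ∃ z ∈ m ^ 2,
      f = algebraMap S P (SymmetricAlgebra.algebraMapInv f) + SymmetricAlgebra.ι S M p + z := by
    intro f
    induction f using SymmetricAlgebra.induction with
    | algebraMap c => exact ⟨0, 0, zero_mem _, by simp [P]⟩
    | ι p => exact ⟨p, 0, zero_mem _, by simp [SymmetricAlgebra.algebraMapInv_ι]⟩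
    | add a b ha hb =>
      obtain ⟨p, z, hz, hp⟩ := ha
      obtain ⟨p', z', hz', hp'⟩ := hb
      refine ⟨p + p', z + z', add_mem hz hz', ?_⟩
      conv_lhs => rw [hp, hp']
      simp only [map_add]
      abel
    | mul a b ha hb =>
      obtain ⟨p, z, hz, hp⟩ := ha
      obtain ⟨p', z', hz', hp'⟩ := hb
      have hι : ∀ w : M, SymmetricAlgebra.ι S M w ∈ m := fun w => SymmetricAlgebra.algebraMapInv_ι w
      refine ⟨SymmetricAlgebra.algebraMapInv a • p' + SymmetricAlgebra.algebraMapInv b • p,
        SymmetricAlgebra.ι S M p * SymmetricAlgebra.ι S M p' + (z * b + (a - z) * z'), ?_, ?_⟩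
      · refine add_mem ?_ (add_mem ((m ^ 2).mul_mem_right _ hz) ((m ^ 2).mul_mem_left _ hz'))
        rw [pow_two]
        exact Ideal.mul_mem_mul (hι p) (hι p')
      · simp only [map_add, map_mul, map_smul, Algebra.smul_def]
        have e1 : a - z = algebraMap S P (SymmetricAlgebra.algebraMapInv a) + SymmetricAlgebra.ι S M p := by
          conv_lhs => arg 1; rw [hp]
          abel
        have e2 : b - z' = algebraMap S P (SymmetricAlgebra.algebraMapInv b) + SymmetricAlgebra.ι S M p' := by
          conv_lhs => arg 1; rw [hp']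
          abel
        linear_combination (b - z') * e1 +
          (algebraMap S P (SymmetricAlgebra.algebraMapInv a) + SymmetricAlgebra.ι S M p) * e2
  have hker : J ≤ m ^ 2 := by
    intro f hf
    obtain ⟨p, z, hz, hp⟩ := hdec f
    rw [RingHom.mem_ker.mp (hJm hf), map_zero, zero_add] at hp
    have hφz : φ z ∈ aug ε ^ 2 := by
      have hle : m.map φ ≤ aug ε := Ideal.map_le_iff_le_comap.mpr fun x hx => by
        change ε (φ x) = 0
        rw [← AlgHom.comp_apply, hεφ]
        exact hx
      have hz2 : φ z ∈ (m ^ 2).map φ := Ideal.mem_map_of_mem _ hz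
      rw [Ideal.map_pow] at hz2
      exact Ideal.pow_right_mono hle 2 hz2
    have h0 := congrArg (lin ε ∘ φ) hp
    have hf0 : φ f = 0 := hf
    simp only [Function.comp_apply, hf0, map_zero, map_add, lin_eq_zero_of_mem_sq ε hφz, add_zero] at h0
    rw [SymmetricAlgebra.lift_ι_apply, hsec] at h0
    rw [hp, ← h0, map_zero, zero_add]
    exact hz
  let Q := P ⧸ m * J
  let π : P →ₐ[R] Q := Ideal.Quotient.mkₐ R (m * J)
  have hle : m * J ≤ J := Ideal.mul_le_right
  let g : Q →ₐ[R] A := Ideal.Quotient.liftₐ (m * J) (φ.restrictScalars R) fun a ha => hle ha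
  have hg : Function.Surjective g := fun b => by
    obtain ⟨a, rfl⟩ := hgen b
    exact ⟨π a, rfl⟩
  have hgker : ∀ a, g (π a) = φ a := fun a => rfl
  have hnil : IsNilpotent (RingHom.ker (g : Q →+* A)) := by
    refine ⟨2, ?_⟩
    change _ ^ (1 + 1) = _
    rw [Submodule.pow_succ, Submodule.pow_one]
    rw [Ideal.zero_eq_bot, ← le_bot_iff, Ideal.mul_le]
    intro r hr s' hs'
    obtain ⟨a, rfl⟩ := Ideal.Quotient.mk_surjective r
    obtain ⟨b, rfl⟩ := Ideal.Quotient.mk_surjective s'
    rw [← map_mul]
    exact Ideal.Quotient.eq_zero_iff_mem.2 (Ideal.mul_mem_mul (hJm (hr : φ a = 0)) (hs' : φ b = 0))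
  let L : A →ₐ[R] Q := Algebra.FormallySmooth.liftOfSurjective (AlgHom.id R A) g hg hnil
  have hτ : ∀ a, ∃ x ∈ J, L (φ a) = π a + π x := by
    intro a
    obtain ⟨x, hx⟩ := Ideal.Quotient.mk_surjective (L (φ a) - π a)
    refine ⟨x, ?_, ?_⟩
    · change φ x = 0
      rw [← hgker]
      change g (Ideal.Quotient.mk _ x) = 0
      rw [hx, map_sub, hgker, sub_eq_zero]
      exact Algebra.FormallySmooth.liftOfSurjective_apply (AlgHom.id R A) g hg hnil (φ a)
    · change L (φ a) = π a + Ideal.Quotient.mk _ x
      rw [hx]; abel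
  have hsq : ∀ f ∈ m ^ 2, L (φ f) = π f := by
    intro f hf
    rw [pow_two] at hf
    refine Submodule.mul_induction_on hf (fun a ha b hb => ?_) fun x y hx hy => by
      rw [map_add, map_add, map_add, hx, hy]
    obtain ⟨i, hi, hi'⟩ := hτ a
    obtain ⟨k, hk, hk'⟩ := hτ b
    rw [map_mul, map_mul, hi', hk', map_mul]
    have h0 : ∀ {x y : P}, x ∈ m → y ∈ J → π x * π y = 0 := fun {x y} hx hy => by
      rw [← map_mul]; exact Ideal.Quotient.eq_zero_iff_mem.2 (Ideal.mul_mem_mul hx hy)
    linear_combination h0 ha hk + h0 hb hi + h0 (hJm hi) hk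
  have hJle : J ≤ m • J := fun f hf => by
    rw [smul_eq_mul]
    refine Ideal.Quotient.eq_zero_iff_mem.1 (show π f = 0 from ?_)
    rw [← hsq f (hker hf), show φ f = 0 from hf, map_zero]
  have hfg : J.FG := by
    have hψ : Function.Surjective (φ.comp Qm) := hgen.comp hQs
    have h1 := Algebra.FinitePresentation.ker_fG_of_surjective (φ.comp Qm) hψ
    have h2 : J = (RingHom.ker (φ.comp Qm)).map Qm := by
      rw [show RingHom.ker (φ.comp Qm) = J.comap Qm from rfl, Ideal.map_comap_of_surjective _ hQs]
    rw [h2]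
    exact h1.map _
  obtain ⟨r, hr, hr0⟩ := Submodule.exists_sub_one_mem_and_smul_eq_zero_of_fg_of_le_smul m J hfg hJle
  have hc : MvPolynomial.constantCoeff (j r) = 1 := by
    have e : (MvPolynomial.aeval fun _ : Fin d => (0 : S)).comp j = SymmetricAlgebra.algebraMapInv := by
      refine SymmetricAlgebra.algHom_ext (LinearMap.ext fun p => ?_)
      change MvPolynomial.aeval _ (j (SymmetricAlgebra.ι S M p)) = SymmetricAlgebra.algebraMapInv (SymmetricAlgebra.ι S M p)
      rw [SymmetricAlgebra.lift_ι_apply, SymmetricAlgebra.algebraMapInv_ι]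
      simp [Fintype.linearCombination_apply]
    have h1 : SymmetricAlgebra.algebraMapInv r = 1 := by
      have : SymmetricAlgebra.algebraMapInv (r - 1) = 0 := hr
      rwa [map_sub, map_one, sub_eq_zero] at this
    rw [← e, AlgHom.comp_apply] at h1
    rw [← h1, MvPolynomial.aeval_zero']
    rfl
  have hu : IsUnit (j r : MvPowerSeries (Fin d) S) := by
    rw [MvPowerSeries.isUnit_iff_constantCoeff]
    have : MvPowerSeries.constantCoeff (j r : MvPowerSeries (Fin d) S) = MvPolynomial.constantCoeff (j r) := by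
      simp [← MvPowerSeries.coeff_zero_eq_constantCoeff_apply, MvPolynomial.constantCoeff_eq]
    rw [this, hc]
    exact isUnit_one
  have hinj : Function.Injective φ := by
    refine (RingHom.injective_iff_ker_eq_bot φ.toRingHom).2 ((Submodule.eq_bot_iff _).2 fun f hf => ?_)
    have h1 : (j r : MvPowerSeries (Fin d) S) * (j f) = 0 := by
      rw [← MvPolynomial.coe_mul, ← map_mul, ← smul_eq_mul, hr0 f hf, map_zero, MvPolynomial.coe_zero]
    have h2 : j f = 0 :=
      MvPolynomial.coe_injective (Fin d) S ((hu.mul_right_eq_zero.1 h1).trans MvPolynomial.coe_zero.symm)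
    exact hjinj (h2.trans (map_zero j).symm)
  exact ⟨hinj, hgen⟩

end Groth.Agent.DiagMonSym

end
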