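import Mathlib
import Groth.Agent.DiagMonSym.Core
import Groth.Agent.GordanLib.Basic

/-!
Graded algebras over sharp monoids: homogeneous lifts of the conormal module generate.
-/

set_option autoImplicit false

universe u

noncomputable section

namespace Groth.Agent.DiagMonSym

open DirectSum

/-- A height on a sharp cancellative monoid. -/
theorem exists_sharp_height (N : Type) [AddCommMonoid N] [AddMonoid.FG N] [IsCancelAdd N]
    (hsharp : ∀ n : N, IsAddUnit n → n = 0) : ∃ d : N →+ ℕ, ∀ n, d n = 0 → n = 0 := by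
  let G := Algebra.GrothendieckAddGroup N
  let of : N →+ G := Algebra.GrothendieckAddGroup.of
  have hof : Function.Injective of := fun a b h => by
    obtain ⟨c, hc⟩ := (AddLocalization.addMonoidOf (⊤ : AddSubmonoid N)).eq_iff_exists.mp h
    exact add_left_cancel hc
  obtain ⟨t, ht⟩ := AddMonoid.FG.fg_top (M := N)
  haveI : AddGroup.FG G := by
    classical
    refine ⟨⟨t.image of, ?_⟩⟩
    rw [Finset.coe_image, eq_top_iff]
    rintro z -
    have hmem : ∀ n : N, of n ∈ AddSubgroup.closure (of '' (t : Set N)) := fun n => by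
      have h1 : n ∈ AddSubmonoid.closure (t : Set N) := ht ▸ AddSubmonoid.mem_top n
      induction h1 using AddSubmonoid.closure_induction with
      | mem x hx => exact AddSubgroup.subset_closure ⟨x, hx, rfl⟩
      | zero => rw [map_zero]; exact zero_mem _
      | add x y _ _ hx hy => rw [map_add]; exact add_mem hx hy
    obtain ⟨⟨a, b⟩, hab⟩ := (AddLocalization.addMonoidOf (⊤ : AddSubmonoid N)).surj z
    change z + of b.1 = of a at hab
    rw [eq_sub_of_add_eq hab]
    exact sub_mem (hmem a) (hmem b.1)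
  have hN : (AddMonoidHom.mrange of).FG := by
    rw [AddMonoidHom.mrange_eq_map]
    exact AddMonoid.FG.fg_top.map of
  have hF : ∀ x ∈ AddMonoidHom.mrange of, ∀ y ∈ AddMonoidHom.mrange of, x + y ∈ (⊥ : AddSubmonoid G) →
      x ∈ (⊥ : AddSubmonoid G) ∧ y ∈ (⊥ : AddSubmonoid G) := by
    rintro _ ⟨a, rfl⟩ _ ⟨b, rfl⟩ h
    rw [AddSubmonoid.mem_bot, ← map_add, ← map_zero of] at h
    have ha : a = 0 := hsharp a (IsAddUnit.of_add_eq_zero _ (hof h))
    have hb : b = 0 := by simpa [ha] using hof h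
    simp [ha, hb]
  obtain ⟨d, hd⟩ := Groth.Agent.GordanLib.exists_height hN bot_le hF
  refine ⟨d.comp of.mrangeRestrict, fun n hn => hof ?_⟩
  have h := (hd (of.mrangeRestrict n)).mp hn
  rw [AddSubmonoid.mem_bot] at h
  rw [map_zero]
  exact h

variable {R A : Type u} [CommRing R] [CommRing A] [Algebra R A]
  {N : Type} [AddCommMonoid N] [DecidableEq N] [IsCancelAdd N]
  (hsharp : ∀ n : N, IsAddUnit n → n = 0) (𝒜 : N → Submodule R A) [GradedAlgebra 𝒜]

/-- Homogeneous components. -/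
def pr (n : N) : A →ₗ[𝒜 0] A where
  toFun a := decompose 𝒜 a n
  map_add' a b := by simp [decompose_add]
  map_smul' c a := by
    rw [RingHom.id_apply]
    induction a using DirectSum.Decomposition.inductionOn 𝒜 with
    | zero => simp
    | add x y hx hy => simp only [smul_add, decompose_add, DirectSum.add_apply, Submodule.coe_add, hx, hy]
    | homogeneous x =>
      rename_i i
      have hm : c • (x : A) ∈ 𝒜 i := by
        rw [Algebra.smul_def]
        have := SetLike.GradedMul.mul_mem (A := 𝒜) c.2 x.2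
        rwa [zero_add] at this
      by_cases h : i = n
      · subst h
        rw [decompose_of_mem_same 𝒜 hm, decompose_of_mem_same 𝒜 x.2]
      · rw [decompose_of_mem_ne 𝒜 hm h, decompose_of_mem_ne 𝒜 x.2 h, smul_zero]

theorem pr_of_mem {n : N} {a : A} (ha : a ∈ 𝒜 n) : pr 𝒜 n a = a := decompose_of_mem_same 𝒜 ha

theorem pr_of_mem_ne {n m : N} {a : A} (ha : a ∈ 𝒜 m) (h : m ≠ n) : pr 𝒜 n a = 0 :=
  decompose_of_mem_ne 𝒜 ha h

theorem pr_mem (n : N) (a : A) : pr 𝒜 n a ∈ 𝒜 n := SetLike.coe_mem _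

include hsharp in
theorem eq_zero_of_add {i j : N} (h : i + j = 0) : i = 0 ∧ j = 0 := by
  have hi : i = 0 := hsharp i (IsAddUnit.of_add_eq_zero _ h)
  exact ⟨hi, by simpa [hi] using h⟩

/-- The augmentation. -/
def augHom : A →ₐ[𝒜 0] 𝒜 0 where
  toFun a := decompose 𝒜 a 0
  map_one' := Subtype.ext (decompose_of_mem_same 𝒜 SetLike.GradedOne.one_mem)
  map_zero' := by rw [decompose_zero]; rfl
  map_add' a b := by rw [decompose_add]; rfl
  map_mul' a b := by
    apply Subtype.ext
    change pr 𝒜 0 (a * b) = pr 𝒜 0 a * pr 𝒜 0 b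
    induction a using DirectSum.Decomposition.inductionOn 𝒜 with
    | zero => simp
    | add x y hx hy => simp only [add_mul, map_add, hx, hy]
    | homogeneous x =>
      rename_i i
      induction b using DirectSum.Decomposition.inductionOn 𝒜 with
      | zero => simp
      | add x' y' hx' hy' => simp only [mul_add, map_add, hx', hy']
      | homogeneous y =>
        rename_i j
        have hm : (x : A) * y ∈ 𝒜 (i + j) := SetLike.GradedMul.mul_mem x.2 y.2
        by_cases h : i + j = 0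
        · obtain ⟨rfl, rfl⟩ := eq_zero_of_add hsharp h
          rw [pr_of_mem 𝒜 x.2, pr_of_mem 𝒜 y.2, pr_of_mem 𝒜 (by simpa using hm)]
        · rw [pr_of_mem_ne 𝒜 hm h]
          rcases not_and_or.mp (fun hc : i = 0 ∧ j = 0 => h (by rw [hc.1, hc.2, add_zero])) with h' | h'
          · rw [pr_of_mem_ne 𝒜 x.2 h', zero_mul]
          · rw [pr_of_mem_ne 𝒜 y.2 h', mul_zero]
  commutes' c := Subtype.ext (decompose_of_mem_same 𝒜 c.2)

theorem mem_aug_iff (a : A) : a ∈ aug (augHom hsharp 𝒜) ↔ pr 𝒜 0 a = 0 :=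
  RingHom.mem_ker.trans ⟨fun h => congrArg Subtype.val h, fun h => Subtype.ext h⟩

theorem mem_aug_of_mem {i : N} {a : A} (ha : a ∈ 𝒜 i) (hi : i ≠ 0) : a ∈ aug (augHom hsharp 𝒜) :=
  (mem_aug_iff hsharp 𝒜 a).mpr (pr_of_mem_ne 𝒜 ha hi)

theorem sum_pr (a : A) [∀ (i) (x : 𝒜 i), Decidable (x ≠ 0)] :
    ∑ i ∈ (decompose 𝒜 a).support, pr 𝒜 i a = a :=
  DirectSum.sum_support_decompose 𝒜 a

/-- Induction on the square of the augmentation ideal. -/
theorem sq_induction (C : A → Prop) (h0 : C 0) (hadd : ∀ x y, C x → C y → C (x + y))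
    (hmul : ∀ i j (x : A), x ∈ 𝒜 i → ∀ y ∈ 𝒜 j, i ≠ 0 → j ≠ 0 → C (x * y))
    {a : A} (ha : a ∈ aug (augHom hsharp 𝒜) ^ 2) : C a := by
  classical
  rw [pow_two] at ha
  refine Submodule.mul_induction_on ha (fun x hx y hy => ?_) hadd
  rw [← sum_pr 𝒜 x, ← sum_pr 𝒜 y, Finset.sum_mul_sum]
  refine Finset.sum_induction _ C hadd h0 fun i _ => Finset.sum_induction _ C hadd h0 fun j _ => ?_
  by_cases hi : i = 0
  · rw [hi, (mem_aug_iff hsharp 𝒜 x).mp hx, zero_mul]; exact h0
  by_cases hj : j = 0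
  · rw [hj, (mem_aug_iff hsharp 𝒜 y).mp hy, mul_zero]; exact h0
  exact hmul i j _ (pr_mem 𝒜 i x) _ (pr_mem 𝒜 j y) hi hj

theorem pr_mem_sq (n : N) {a : A} (ha : a ∈ aug (augHom hsharp 𝒜) ^ 2) :
    pr 𝒜 n a ∈ aug (augHom hsharp 𝒜) ^ 2 := by
  refine sq_induction hsharp 𝒜 (fun z => pr 𝒜 n z ∈ aug (augHom hsharp 𝒜) ^ 2) ?_ ?_ ?_ ha
  · rw [map_zero]; exact zero_mem _
  · intro x y hx hy; rw [map_add]; exact add_mem hx hy
  · intro i j x hx y hy hi hj
    by_cases h : i + j = n
    · rw [pr_of_mem 𝒜 (h ▸ SetLike.GradedMul.mul_mem hx hy), pow_two]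
      exact Ideal.mul_mem_mul (mem_aug_of_mem hsharp 𝒜 hx hi) (mem_aug_of_mem hsharp 𝒜 hy hj)
    · rw [pr_of_mem_ne 𝒜 (SetLike.GradedMul.mul_mem hx hy) h]; exact zero_mem _

theorem exists_lift [AddMonoid.FG N] [Module.Projective (𝒜 0) (aug (augHom hsharp 𝒜)).Cotangent] :
    ∃ s : (aug (augHom hsharp 𝒜)).Cotangent →ₗ[𝒜 0] A,
      (∀ p, s p ∈ aug (augHom hsharp 𝒜)) ∧ (∀ p, lin (augHom hsharp 𝒜) (s p) = p) ∧
        Function.Surjective (SymmetricAlgebra.lift s) := by
  classical
  let ε := augHom hsharp 𝒜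
  obtain ⟨s₀, hs₀⟩ := Module.projective_lifting_property (lin ε) LinearMap.id (lin_surjective ε)
  have hs₀' : ∀ p, lin ε (s₀ p) = p := fun p => LinearMap.congr_fun hs₀ p
  let T₀ : A →+ A :=
    (DirectSum.toAddMonoid fun n => ((pr 𝒜 n ∘ₗ s₀ ∘ₗ lin ε).toAddMonoidHom.comp (𝒜 n).subtype.toAddMonoidHom)).comp
      (decomposeAddEquiv 𝒜).toAddMonoidHom
  have hT : ∀ n, ∀ x ∈ 𝒜 n, T₀ x = pr 𝒜 n (s₀ (lin ε x)) := fun n x hx => by
    simp only [T₀, AddMonoidHom.comp_apply, AddEquiv.coe_toAddMonoidHom, decomposeAddEquiv_apply]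
    rw [show decompose 𝒜 x = DirectSum.of (fun i => 𝒜 i) n ⟨x, hx⟩ from decompose_coe 𝒜 ⟨x, hx⟩, toAddMonoid_of]
    rfl
  let T : A →ₗ[𝒜 0] A :=
    { toFun := T₀
      map_add' := T₀.map_add
      map_smul' := fun c a => by
        rw [RingHom.id_apply]
        induction a using DirectSum.Decomposition.inductionOn 𝒜 with
        | zero => rw [smul_zero, map_zero, smul_zero]
        | add x y hx hy => rw [smul_add, map_add, hx, hy, map_add, smul_add]
        | homogeneous x =>
          rename_i i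
          have hm : c • (x : A) ∈ 𝒜 i := by
            rw [Algebra.smul_def]
            have := SetLike.GradedMul.mul_mem (A := 𝒜) c.2 x.2
            rwa [zero_add] at this
          rw [hT i _ hm, hT i _ x.2, map_smul, map_smul, map_smul] }
  have hlin0 : ∀ x ∈ 𝒜 0, lin ε x = 0 := fun x hx => lin_algebraMap ε ⟨x, hx⟩
  have hTlin : ∀ a, lin ε (T a) = lin ε a := by
    intro a
    induction a using DirectSum.Decomposition.inductionOn 𝒜 with
    | zero => simp
    | add x y hx hy => simp only [map_add, hx, hy]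
    | homogeneous x =>
      rename_i i
      change lin ε (T₀ x) = _
      rw [hT i _ x.2]
      by_cases hi : i = 0
      · subst hi
        rw [hlin0 _ x.2, map_zero, map_zero, map_zero]
      · have hxm : (x : A) ∈ aug ε := mem_aug_of_mem hsharp 𝒜 x.2 hi
        let y := s₀ (lin ε x) - algebraMap (𝒜 0) A (ε (s₀ (lin ε x)))
        have hy : pr 𝒜 i y = pr 𝒜 i (s₀ (lin ε x)) := by
          rw [map_sub, SetLike.GradeZero.algebraMap_apply, pr_of_mem_ne 𝒜 (n := i) (SetLike.coe_mem (ε (s₀ (lin ε x)))) (Ne.symm hi), sub_zero]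
        have hyl : lin ε y = lin ε x := by rw [map_sub, hs₀', lin_algebraMap, sub_zero]
        have hdiff : y - (x : A) ∈ aug ε ^ 2 := by
          exact (Ideal.toCotangent_eq (aug ε)).mp
            ((lin_of_mem ε (sub_mem_aug ε _)).symm.trans (hyl.trans (lin_of_mem ε hxm)))
        have h2 := lin_eq_zero_of_mem_sq ε (pr_mem_sq hsharp 𝒜 i hdiff)
        rw [map_sub, map_sub, hy, pr_of_mem 𝒜 x.2, sub_eq_zero] at h2
        exact h2
  have hTI : ∀ a, T a ∈ aug ε := by
    intro a
    induction a using DirectSum.Decomposition.inductionOn 𝒜 with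
    | zero => rw [map_zero]; exact zero_mem _
    | add x y hx hy => rw [map_add]; exact add_mem hx hy
    | homogeneous x =>
      rename_i i
      change T₀ x ∈ _
      rw [hT i _ x.2]
      by_cases hi : i = 0
      · subst hi
        rw [hlin0 _ x.2, map_zero, map_zero]
        exact zero_mem _
      · exact mem_aug_of_mem hsharp 𝒜 (pr_mem 𝒜 i _) hi
  let s := T ∘ₗ s₀
  have hsec : ∀ p, lin ε (s p) = p := fun p => (hTlin _).trans (hs₀' p)
  refine ⟨s, fun p => hTI _, hsec, ?_⟩
  have hhom : ∀ n, n ≠ 0 → ∀ x ∈ 𝒜 n, s (lin ε x) ∈ 𝒜 n := by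
    intro n hn x hx
    let b := s₀ (lin ε x)
    have hbx : b - algebraMap (𝒜 0) A (ε b) - x ∈ aug ε ^ 2 := by
      have h : lin ε (b - algebraMap (𝒜 0) A (ε b)) = lin ε x := by
        rw [map_sub, hs₀', lin_algebraMap, sub_zero]
      exact (Ideal.toCotangent_eq (aug ε)).mp
        ((lin_of_mem ε (sub_mem_aug ε b)).symm.trans (h.trans (lin_of_mem ε (mem_aug_of_mem hsharp 𝒜 hx hn))))
    change T b ∈ 𝒜 n
    rw [← sum_pr 𝒜 b, map_sum]
    refine Submodule.sum_mem _ fun m _ => ?_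
    change T₀ (pr 𝒜 m b) ∈ 𝒜 n
    rw [hT m _ (pr_mem 𝒜 m b)]
    by_cases hmn : m = n
    · rw [hmn]; exact pr_mem 𝒜 n _
    · have hz : lin ε (pr 𝒜 m b) = 0 := by
        by_cases hm0 : m = 0
        · exact hlin0 _ (hm0 ▸ pr_mem 𝒜 m b)
        · have h2 := lin_eq_zero_of_mem_sq ε (pr_mem_sq hsharp 𝒜 m hbx)
          rwa [map_sub, map_sub, pr_of_mem_ne 𝒜 hx (Ne.symm hmn), SetLike.GradeZero.algebraMap_apply,
            map_sub, pr_of_mem_ne 𝒜 (n := m) (SetLike.coe_mem (ε b)) (Ne.symm hm0), sub_zero, map_zero, sub_zero] at h2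
      rw [hz, map_zero, map_zero]
      exact zero_mem _
  obtain ⟨d, hd⟩ := exists_sharp_height N hsharp
  let φ := SymmetricAlgebra.lift s
  have main : ∀ k, ∀ n, d n = k → ∀ x ∈ 𝒜 n, x ∈ φ.range := by
    intro k
    induction k using Nat.strong_induction_on with
    | _ k ih =>
      intro n hnk x hx
      by_cases hn : n = 0
      · subst hn
        exact φ.range.algebraMap_mem ⟨x, hx⟩
      have hxm := mem_aug_of_mem hsharp 𝒜 hx hn
      have hz : x - s (lin ε x) ∈ aug ε ^ 2 := by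
        have h : lin ε x = lin ε (s (lin ε x)) := (hsec _).symm
        exact (Ideal.toCotangent_eq (aug ε)).mp
          ((lin_of_mem ε hxm).symm.trans (h.trans (lin_of_mem ε (a := s (lin ε x)) (hTI _))))
      have hzn : x - s (lin ε x) ∈ 𝒜 n := sub_mem hx (hhom n hn x hx)
      have key : pr 𝒜 n (x - s (lin ε x)) ∈ φ.range := by
        refine sq_induction hsharp 𝒜 (fun z => pr 𝒜 n z ∈ φ.range) ?_ ?_ ?_ hz
        · rw [map_zero]; exact zero_mem _
        · intro a b ha hb; rw [map_add]; exact add_mem ha hb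
        · intro i j a ha b hb hi hj
          by_cases h : i + j = n
          · rw [pr_of_mem 𝒜 (h ▸ SetLike.GradedMul.mul_mem ha hb)]
            have hdi : d i ≠ 0 := fun e => hi (hd i e)
            have hdj : d j ≠ 0 := fun e => hj (hd j e)
            have hsum : d i + d j = k := by rw [← map_add, h, hnk]
            exact mul_mem (ih (d i) (by omega) i rfl a ha) (ih (d j) (by omega) j rfl b hb)
          · rw [pr_of_mem_ne 𝒜 (SetLike.GradedMul.mul_mem ha hb) h]; exact zero_mem _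
      rw [pr_of_mem 𝒜 hzn] at key
      have hs' : s (lin ε x) ∈ φ.range := ⟨SymmetricAlgebra.ι _ _ (lin ε x), SymmetricAlgebra.lift_ι_apply _ _⟩
      simpa using add_mem key hs'
  intro a
  have ha : a ∈ φ.range := by
    rw [← sum_pr 𝒜 a]
    exact sum_mem fun i _ => main (d i) i rfl _ (pr_mem 𝒜 i a)
  exact ha

end Groth.Agent.DiagMonSym

end
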